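import Groth.Agent.Fano.K745.HDef

/-!
# Remainders modulo a quadratic form monic in the first variable

* `MI d`: the monomials `X_0^a X_1^b X_2^c` of degree `d` with `a ≤ 1`; `Rz z`: the combination with coefficients `z`;
* `exists_Rz`: every form of degree `d` is congruent to some `Rz z` modulo `qf c`;
* `remCoeff_Rz`: the coefficients of the remainder of `Rz z`;
* `exists_subF_eq`: if three rows of `φ` are independent every ternary form is of the form `G ∘ φ`.
-/

set_option autoImplicit false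

universe u

namespace K724.ConRem

open K745.ConDef K745.HDef MvPolynomial

section Ring

variable {A B : Type u} [CommRing A] [CommRing B]

theorem finSuccEquiv_qf (c : Fin 5 → A) : finSuccEquiv A 2 (qf c) =
    Polynomial.X ^ 2 + Polynomial.C (C (c 0) * X 0 + C (c 1) * X 1) * Polynomial.X +
      Polynomial.C (C (c 2) * X 0 ^ 2 + C (c 3) * (X 0 * X 1) + C (c 4) * X 1 ^ 2) := by
  have h1 : (1 : Fin 3) = (0 : Fin 2).succ := rfl
  have h2 : (2 : Fin 3) = (1 : Fin 2).succ := rfl
  have hC : ∀ a : A, finSuccEquiv A 2 (C a) = Polynomial.C (C a) := by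
    intro a
    simp [finSuccEquiv_apply]
  simp only [qf, map_add, map_mul, map_pow, hC, finSuccEquiv_X_zero, h1, h2, finSuccEquiv_X_succ]
  ring

theorem monic_qf (c : Fin 5 → A) : (finSuccEquiv A 2 (qf c)).Monic := by
  rw [finSuccEquiv_qf]
  monicity!

theorem degree_qf [Nontrivial A] (c : Fin 5 → A) : (finSuccEquiv A 2 (qf c)).degree = 2 := by
  rw [finSuccEquiv_qf]
  compute_degree!

theorem finSuccEquiv_map (β : A →+* B) (n : ℕ) (F : MvPolynomial (Fin (n + 1)) A) :
    finSuccEquiv B n (F.map β) = (finSuccEquiv A n F).map (MvPolynomial.map β) := by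
  apply Polynomial.ext
  intro i
  apply MvPolynomial.ext
  intro m
  rw [finSuccEquiv_coeff_coeff, coeff_map, Polynomial.coeff_map, coeff_map, finSuccEquiv_coeff_coeff]

theorem map_remCoeff (β : A →+* B) (c : Fin 5 → A) (F : MvPolynomial (Fin 3) A) (m : ℕ) (e : Fin 2 →₀ ℕ) :
    β (remCoeff c F m e) = remCoeff (fun i => β (c i)) (F.map β) m e := by
  rw [remCoeff, remCoeff, ← map_qf, finSuccEquiv_map, finSuccEquiv_map, ← Polynomial.map_modByMonic _ (monic_qf c),
    Polynomial.coeff_map, coeff_map]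

theorem remCoeff_add (c : Fin 5 → A) (F F' : MvPolynomial (Fin 3) A) (m : ℕ) (e : Fin 2 →₀ ℕ) :
    remCoeff c (F + F') m e = remCoeff c F m e + remCoeff c F' m e := by
  rw [remCoeff, map_add, Polynomial.add_modByMonic, Polynomial.coeff_add, coeff_add]
  rfl

theorem remCoeff_C_mul (c : Fin 5 → A) (a : A) (F : MvPolynomial (Fin 3) A) (m : ℕ) (e : Fin 2 →₀ ℕ) :
    remCoeff c (C a * F) m e = a * remCoeff c F m e := by
  have hC : finSuccEquiv A 2 (C a) = Polynomial.C (C a) := by
    simp [finSuccEquiv_apply]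
  rw [remCoeff, map_mul, hC, ← Polynomial.smul_eq_C_mul, Polynomial.smul_modByMonic, Polynomial.coeff_smul,
    smul_eq_mul, coeff_C_mul]
  rfl

theorem dvd_iff_remCoeff (c : Fin 5 → A) (F : MvPolynomial (Fin 3) A) :
    qf c ∣ F ↔ ∀ m e, remCoeff c F m e = 0 := by
  rw [← map_dvd_iff (finSuccEquiv A 2), ← Polynomial.modByMonic_eq_zero_iff_dvd (monic_qf c)]
  constructor
  · intro h m e
    rw [remCoeff, h, Polynomial.coeff_zero, coeff_zero]
  · intro h
    apply Polynomial.ext
    intro m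
    apply MvPolynomial.ext
    intro e
    rw [Polynomial.coeff_zero, coeff_zero]
    exact h m e

theorem remCoeff_congr (c : Fin 5 → A) {F F' : MvPolynomial (Fin 3) A} (h : qf c ∣ F - F') (m : ℕ)
    (e : Fin 2 →₀ ℕ) : remCoeff c F m e = remCoeff c F' m e := by
  have h1 := (dvd_iff_remCoeff c _).1 h m e
  have h2 : F = (F - F') + F' := by ring
  rw [h2, remCoeff_add, h1, zero_add]

/-- The monomials of degree `d` which are of degree at most one in the first variable. -/
abbrev MI (d : ℕ) : Type := Fin (d + 1) ⊕ Fin d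

/-- The exponent of the first variable. -/
def mI {d : ℕ} : MI d → ℕ
  | Sum.inl _ => 0
  | Sum.inr _ => 1

/-- The exponents of the other variables. -/
noncomputable def eI {d : ℕ} : MI d → (Fin 2 →₀ ℕ)
  | Sum.inl i => Finsupp.single 0 i.val + Finsupp.single 1 (d - i.val)
  | Sum.inr i => Finsupp.single 0 i.val + Finsupp.single 1 (d - 1 - i.val)

theorem mI_le {d : ℕ} (m : MI d) : mI m ≤ 1 := by
  rcases m with i | i <;> simp [mI]

theorem mI_eI_injective {d : ℕ} {m m' : MI d} (h1 : mI m = mI m') (h2 : eI m = eI m') : m = m' := by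
  have h3 := DFunLike.congr_fun h2 0
  rcases m with i | i <;> rcases m' with j | j
  · simp [eI] at h3
    rw [Fin.ext h3]
  · simp [mI] at h1
  · simp [mI] at h1
  · simp [eI] at h3
    rw [Fin.ext h3]

theorem degree_cons {d : ℕ} (m : MI d) : ((eI m).cons (mI m)).degree = d := by
  rw [Finsupp.degree_eq_sum, Fin.sum_univ_three]
  have h1 : (1 : Fin 3) = (0 : Fin 2).succ := rfl
  have h2 : (2 : Fin 3) = (1 : Fin 2).succ := rfl
  rw [h1, h2, Finsupp.cons_succ, Finsupp.cons_succ, Finsupp.cons_zero]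
  rcases m with i | i
  · have := i.2
    simp [mI, eI]
    omega
  · have := i.2
    simp [mI, eI]
    omega

/-- The combination with coefficients `z` of the monomials in `MI d`. -/
noncomputable def Rz {d : ℕ} (z : MI d → A) : MvPolynomial (Fin 3) A :=
  ∑ m, monomial ((eI m).cons (mI m)) (z m)

theorem isHomogeneous_Rz {d : ℕ} (z : MI d → A) : (Rz z).IsHomogeneous d :=
  IsHomogeneous.sum _ _ _ fun m _ => isHomogeneous_monomial _ (degree_cons m)

theorem Rz_add {d : ℕ} (z z' : MI d → A) : Rz (z + z') = Rz z + Rz z' := by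
  simp [Rz, Finset.sum_add_distrib]

theorem Rz_C_mul {d : ℕ} (a : A) (z : MI d → A) : Rz (fun m => a * z m) = C a * Rz z := by
  rw [Rz, Rz, Finset.mul_sum]
  exact Finset.sum_congr rfl fun m _ => (C_mul_monomial).symm

theorem Rz_zero {d : ℕ} : Rz (0 : MI d → A) = 0 := by
  simp [Rz]

theorem Rz_single {d : ℕ} (m : MI d) : Rz (Pi.single m (1 : A)) = monomial ((eI m).cons (mI m)) 1 := by
  classical
  rw [Rz, Finset.sum_eq_single m]
  · simp
  · intro m' _ h
    simp [h]
  · simp

theorem coeff_Rz {d : ℕ} (z : MI d → A) (m : MI d) : coeff ((eI m).cons (mI m)) (Rz z) = z m := by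
  classical
  rw [Rz, coeff_sum, Finset.sum_eq_single m]
  · simp
  · intro m' _ h
    rw [coeff_monomial, if_neg]
    intro h1
    apply h
    apply mI_eI_injective
    · have := DFunLike.congr_fun h1 0
      simpa using this
    · have := congrArg Finsupp.tail h1
      simpa using this
  · simp

theorem coeff_Rz_of_ne {d : ℕ} (z : MI d → A) (m : ℕ) (e : Fin 2 →₀ ℕ) (h : ∀ i : MI d, ¬ (mI i = m ∧ eI i = e)) :
    coeff (e.cons m) (Rz z) = 0 := by
  classical
  rw [Rz, coeff_sum]
  refine Finset.sum_eq_zero fun i _ => ?_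
  rw [coeff_monomial, if_neg]
  intro h1
  apply h i
  refine ⟨?_, ?_⟩
  · have := DFunLike.congr_fun h1 0
    simpa using this
  · have := congrArg Finsupp.tail h1
    simpa using this

theorem remCoeff_Rz [Nontrivial A] {d : ℕ} (c : Fin 5 → A) (z : MI d → A) (m : ℕ) (e : Fin 2 →₀ ℕ) :
    remCoeff c (Rz z) m e = coeff (e.cons m) (Rz z) := by
  have h1 : finSuccEquiv A 2 (Rz z) %ₘ finSuccEquiv A 2 (qf c) = finSuccEquiv A 2 (Rz z) := by
    rw [Polynomial.modByMonic_eq_self_iff (monic_qf c), degree_qf]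
    rw [show (2 : WithBot ℕ) = ((2 : ℕ) : WithBot ℕ) from rfl, Polynomial.degree_lt_iff_coeff_zero]
    intro i hi
    apply MvPolynomial.ext
    intro s
    rw [finSuccEquiv_coeff_coeff, coeff_zero]
    apply coeff_Rz_of_ne
    rintro m' ⟨h2, -⟩
    have := mI_le m'
    omega
  rw [remCoeff, h1, finSuccEquiv_coeff_coeff]

theorem monomial_eq_prod {a b e : ℕ} (s : Fin 3 →₀ ℕ) (h0 : s 0 = a) (h1 : s 1 = b) (h2 : s 2 = e) :
    (monomial s (1 : A) : MvPolynomial (Fin 3) A) = X 0 ^ a * X 1 ^ b * X 2 ^ e := by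
  rw [monomial_eq, Finsupp.prod_fintype _ _ (fun i => by simp), Fin.prod_univ_three, h0, h1, h2]
  simp

theorem exists_Rz_monomial {d : ℕ} (c : Fin 5 → A) (a : ℕ) : ∀ b e : ℕ, a + b + e = d →
    ∃ z : MI d → A, qf c ∣ X 0 ^ a * X 1 ^ b * X 2 ^ e - Rz z := by
  classical
  induction a using Nat.strong_induction_on with
  | _ a ih =>
    intro b e h
    match a, ih, h with
    | 0, _, h =>
      refine ⟨Pi.single (Sum.inl ⟨b, by omega⟩) 1, ?_⟩
      rw [Rz_single, monomial_eq_prod (a := 0) (b := b) (e := e), sub_self]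
      · exact dvd_zero _
      · simp [mI]
      · rw [show (1 : Fin 3) = (0 : Fin 2).succ from rfl, Finsupp.cons_succ]
        simp [eI]
      · rw [show (2 : Fin 3) = (1 : Fin 2).succ from rfl, Finsupp.cons_succ]
        simp [eI]
        omega
    | 1, _, h =>
      refine ⟨Pi.single (Sum.inr ⟨b, by omega⟩) 1, ?_⟩
      rw [Rz_single, monomial_eq_prod (a := 1) (b := b) (e := e), sub_self]
      · exact dvd_zero _
      · simp [mI]
      · rw [show (1 : Fin 3) = (0 : Fin 2).succ from rfl, Finsupp.cons_succ]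
        simp [eI]
      · rw [show (2 : Fin 3) = (1 : Fin 2).succ from rfl, Finsupp.cons_succ]
        simp [eI]
        omega
    | a + 2, ih, h =>
      obtain ⟨z0, w0, h0⟩ := ih (a + 1) (by omega) (b + 1) e (by omega)
      obtain ⟨z1, w1, h1⟩ := ih (a + 1) (by omega) b (e + 1) (by omega)
      obtain ⟨z2, w2, h2⟩ := ih a (by omega) (b + 2) e (by omega)
      obtain ⟨z3, w3, h3⟩ := ih a (by omega) (b + 1) (e + 1) (by omega)
      obtain ⟨z4, w4, h4⟩ := ih a (by omega) b (e + 2) (by omega)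
      refine ⟨(fun m => (-c 0) * z0 m) + (fun m => (-c 1) * z1 m) + (fun m => (-c 2) * z2 m) +
        (fun m => (-c 3) * z3 m) + (fun m => (-c 4) * z4 m), ?_⟩
      rw [Rz_add, Rz_add, Rz_add, Rz_add, Rz_C_mul, Rz_C_mul, Rz_C_mul, Rz_C_mul, Rz_C_mul]
      refine ⟨X 0 ^ a * X 1 ^ b * X 2 ^ e - C (c 0) * w0 - C (c 1) * w1 - C (c 2) * w2 - C (c 3) * w3 - C (c 4) * w4,
        ?_⟩
      have e0 : Rz z0 = X 0 ^ (a + 1) * X 1 ^ (b + 1) * X 2 ^ e - qf c * w0 := by rw [← h0]; ring
      have e1 : Rz z1 = X 0 ^ (a + 1) * X 1 ^ b * X 2 ^ (e + 1) - qf c * w1 := by rw [← h1]; ring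
      have e2 : Rz z2 = X 0 ^ a * X 1 ^ (b + 2) * X 2 ^ e - qf c * w2 := by rw [← h2]; ring
      have e3 : Rz z3 = X 0 ^ a * X 1 ^ (b + 1) * X 2 ^ (e + 1) - qf c * w3 := by rw [← h3]; ring
      have e4 : Rz z4 = X 0 ^ a * X 1 ^ b * X 2 ^ (e + 2) - qf c * w4 := by rw [← h4]; ring
      rw [e0, e1, e2, e3, e4]
      simp only [C_neg]
      have hq : qf c = X 0 ^ 2 + C (c 0) * (X 0 * X 1) + C (c 1) * (X 0 * X 2) + C (c 2) * X 1 ^ 2 +
        C (c 3) * (X 1 * X 2) + C (c 4) * X 2 ^ 2 := rfl
      generalize qf c = q at *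
      subst hq
      ring

/-- Every form is congruent to a unique reduced form. -/
theorem exists_Rz {d : ℕ} (c : Fin 5 → A) (F : MvPolynomial (Fin 3) A) (hF : F.IsHomogeneous d) :
    ∃ z : MI d → A, qf c ∣ F - Rz z := by
  classical
  have key : ∀ S : Finset (Fin 3 →₀ ℕ), (∀ s ∈ S, s.degree = d) →
      ∃ z : MI d → A, qf c ∣ (∑ s ∈ S, monomial s (coeff s F)) - Rz z := by
    intro S
    induction S using Finset.induction_on with
    | empty =>
      intro _
      exact ⟨0, by rw [Finset.sum_empty, Rz_zero, sub_zero]; exact dvd_zero _⟩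
    | insert s S hs ih =>
      intro h
      obtain ⟨z, hz⟩ := ih fun s' hs' => h s' (Finset.mem_insert_of_mem hs')
      have hsd : s 0 + s 1 + s 2 = d := by
        have := h s (Finset.mem_insert_self _ _)
        rwa [Finsupp.degree_eq_sum, Fin.sum_univ_three] at this
      obtain ⟨z', hz'⟩ := exists_Rz_monomial c (s 0) (s 1) (s 2) hsd
      refine ⟨(fun m => coeff s F * z' m) + z, ?_⟩
      rw [Finset.sum_insert hs, Rz_add, Rz_C_mul]
      have h1 : monomial s (coeff s F) = C (coeff s F) * (X 0 ^ s 0 * X 1 ^ s 1 * X 2 ^ s 2) := by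
        rw [← monomial_eq_prod s rfl rfl rfl, C_mul_monomial, mul_one]
      rw [h1]
      have h2 : C (coeff s F) * (X 0 ^ s 0 * X 1 ^ s 1 * X 2 ^ s 2) + ∑ s ∈ S, monomial s (coeff s F) -
          (C (coeff s F) * Rz z' + Rz z) =
          C (coeff s F) * (X 0 ^ s 0 * X 1 ^ s 1 * X 2 ^ s 2 - Rz z') + (∑ s ∈ S, monomial s (coeff s F) - Rz z) := by
        ring
      rw [h2]
      exact dvd_add (Dvd.dvd.mul_left hz' _) hz
  obtain ⟨z, hz⟩ := key F.support fun s hs => by
    by_contra h
    exact (mem_support_iff.1 hs) (hF.coeff_eq_zero h)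
  refine ⟨z, ?_⟩
  rwa [← F.as_sum] at hz

/-- The remainder of a form of degree `d` has only coefficients at `MI d`. -/
theorem remCoeff_eq_zero [Nontrivial A] {d : ℕ} (c : Fin 5 → A) (F : MvPolynomial (Fin 3) A) (hF : F.IsHomogeneous d)
    (m : ℕ) (e : Fin 2 →₀ ℕ) (h : ∀ i : MI d, ¬ (mI i = m ∧ eI i = e)) : remCoeff c F m e = 0 := by
  obtain ⟨z, hz⟩ := exists_Rz c F hF
  rw [remCoeff_congr c hz, remCoeff_Rz, coeff_Rz_of_ne z m e h]

end Ring

section Sub

variable {n : ℕ} {A B C' : Type u} [CommRing A] [CommRing B] [CommRing C']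

theorem map_lin3 (β : A →+* B) (v : Fin 3 → A) : (lin3 v).map β = lin3 (fun i => β (v i)) := by
  simp [lin3]

theorem isHomogeneous_lin3 (v : Fin 3 → A) : (lin3 v).IsHomogeneous 1 :=
  IsHomogeneous.sum _ _ _ fun i _ => by
    simpa using (isHomogeneous_C (Fin 3) (v i)).mul (isHomogeneous_X A i)

theorem map_subF (ρ : C' →+* A) (β : A →+* B) (G : MvPolynomial (Fin (n + 1)) C') (φ : Fin (n + 1) → Fin 3 → A) :
    (subF ρ G φ).map β = subF (β.comp ρ) G (fun l i => β (φ l i)) := by
  rw [subF, subF, ← MvPolynomial.coe_eval₂Hom, ← MvPolynomial.coe_eval₂Hom]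
  change (MvPolynomial.map β).comp (eval₂Hom (C.comp ρ) fun l => lin3 (φ l)) G = _
  congr 1
  apply MvPolynomial.ringHom_ext
  · intro a
    simp
  · intro l
    simp [map_lin3]

theorem isHomogeneous_subF {d : ℕ} (ρ : B →+* A) (G : MvPolynomial (Fin (n + 1)) B) (hG : G.IsHomogeneous d)
    (φ : Fin (n + 1) → Fin 3 → A) : (subF ρ G φ).IsHomogeneous d := by
  have := hG.eval₂ (n := 1) (C.comp ρ) (fun l => lin3 (φ l)) (fun r => isHomogeneous_C _ _)
    (fun l => isHomogeneous_lin3 _)
  rwa [one_mul] at this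

theorem subF_add (ρ : B →+* A) (G G' : MvPolynomial (Fin (n + 1)) B) (φ : Fin (n + 1) → Fin 3 → A) :
    subF ρ (G + G') φ = subF ρ G φ + subF ρ G' φ := by
  rw [subF, eval₂_add]
  rfl

theorem subF_C_mul (ρ : B →+* A) (b : B) (G : MvPolynomial (Fin (n + 1)) B) (φ : Fin (n + 1) → Fin 3 → A) :
    subF ρ (C b * G) φ = C (ρ b) * subF ρ G φ := by
  rw [subF, eval₂_mul, eval₂_C]
  rfl

/-- If three rows of `φ` are independent every form in three variables is of the form `G ∘ φ`. -/
theorem exists_subF_eq {k : Type u} [Field k] {d : ℕ} (φ : Fin (n + 1) → Fin 3 → k) (l : Fin 3 → Fin (n + 1))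
    (hl : det3 φ l ≠ 0) (F : MvPolynomial (Fin 3) k) (hF : F.IsHomogeneous d) :
    ∃ G : LefPen.Form n k d, subF (RingHom.id k) G.1 φ = F := by
  classical
  let M : Matrix (Fin 3) (Fin 3) k := Matrix.of fun i j => φ (l i) j
  have hM : IsUnit M.det := isUnit_iff_ne_zero.2 hl
  let N := M⁻¹
  have hNM : N * M = 1 := Matrix.nonsing_inv_mul M hM
  let f : Fin 3 → MvPolynomial (Fin (n + 1)) k := fun i => ∑ j, C (N i j) * X (l j)
  have hf : ∀ i, (f i).IsHomogeneous 1 := fun i => IsHomogeneous.sum _ _ _ fun j _ => by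
    simpa using (isHomogeneous_C (Fin (n + 1)) (N i j)).mul (isHomogeneous_X k (l j))
  refine ⟨⟨aeval f F, ?_⟩, ?_⟩
  · rw [mem_homogeneousSubmodule]
    have := hF.aeval (n := 1) f hf
    rwa [one_mul] at this
  · change eval₂Hom (C.comp (RingHom.id k)) (fun l => lin3 (φ l)) (aeval f F) = F
    have h1 : ((eval₂Hom (C.comp (RingHom.id k)) (fun l => lin3 (φ l))).comp (aeval f).toRingHom) =
        RingHom.id (MvPolynomial (Fin 3) k) := by
      apply MvPolynomial.ringHom_ext
      · intro a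
        simp
      · intro i
        have h2 : ∑ j, (C (N i j) : MvPolynomial (Fin 3) k) * lin3 (φ (l j)) = X i := by
          simp only [lin3, Finset.mul_sum]
          rw [Finset.sum_comm]
          have h3 : ∀ t : Fin 3, ∑ j, (C (N i j) : MvPolynomial (Fin 3) k) * (C (φ (l j) t) * X t) =
              C ((N * M) i t) * X t := by
            intro t
            rw [Matrix.mul_apply, map_sum, Finset.sum_mul]
            refine Finset.sum_congr rfl fun j _ => ?_
            rw [C_mul]
            simp only [M, Matrix.of_apply]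
            ring
          simp only [h3, hNM, Matrix.one_apply]
          rw [Finset.sum_eq_single i]
          · simp
          · intro t _ ht
            rw [if_neg (Ne.symm ht)]
            simp
          · simp
        rw [RingHom.comp_apply]
        simp only [AlgHom.toRingHom_eq_coe, RingHom.coe_coe, aeval_X, f, map_sum, map_mul, eval₂Hom_C, eval₂Hom_X',
          RingHom.id_apply, RingHom.comp_apply]
        exact h2
    exact RingHom.congr_fun h1 F

end Sub

end K724.ConRem
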