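import Groth.Agent.Fano.K713.GenCount
import Groth.Agent.Fano.K714.DimMv

/-!
# Dimension counts for the fibres over a general vector

`isGeneric_dim_le`: `V` a finite-dimensional vector space, `R` a `k`-algebra of dimension at most `e`, `L_m : V → R`
(`m ∈ M`) linear, `r_j ∈ R` (`j ∈ J`), `e ≤ D + |M|`.  For a general vector `H` the following holds: if `P` is a prime
of `k[J]` such that every `f ∉ P` does not vanish at some point `(χ(r_j))_j`, where `χ` is a `k`-point of `R` at which
the linear forms `χ ∘ L_m` are independent and vanish at `H`, then `dim k[J]/P ≤ D`.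
-/

set_option autoImplicit false
universe u

namespace K724.FibDim

open LefPen Groth.Agent.Lefpen.H701 Groth.Agent.Lefpen.H701.SmallDim Groth.Agent.Lefpen.H701.Rk
  Groth.Agent.Lefpen.H702.PolyFun MvPolynomial

variable {k : Type u} [Field k]

theorem smallDim_proj {ι ι' : Type} {m : ℕ∞} {T : Set (ι → k)} (h : SmallDim k m T) (j : ι' → ι) :
    SmallDim k m {t : ι' → k | ∃ s ∈ T, ∀ i, s (j i) = t i} := by
  obtain ⟨A, i1, i2, a, h1, h2⟩ := h
  refine ⟨A, i1, i2, fun i => a (j i), ?_, ?_⟩
  · rintro t ⟨s, hs, hst⟩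
    obtain ⟨χ, hχ⟩ := h1 s hs
    exact ⟨χ, fun i => (hχ (j i)).trans (hst i)⟩
  · intro K _ _ ψ
    refine (rk_mono k ?_).trans (h2 K ψ)
    rintro _ ⟨i, rfl⟩
    exact ⟨j i, rfl⟩

theorem smallDim_singleton {M : Type} (w : M → k) : SmallDim k 0 ({w} : Set (M → k)) := by
  refine ⟨k, inferInstance, inferInstance, w, ?_, ?_⟩
  · rintro t rfl
    exact ⟨AlgHom.id k k, fun i => rfl⟩
  · intro K _ _ ψ
    have h1 : Set.range (fun i : M => ψ (w i)) ⊆ cl k (∅ : Set K) := by
      rintro _ ⟨i, rfl⟩
      have h2 : ψ (w i) = algebraMap k K (w i) := ψ.commutes (w i)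
      show ψ (w i) ∈ cl k (∅ : Set K)
      rw [h2]
      exact algebraMap_mem_cl k _ _
    refine (rk_le_of_subset_cl k h1).trans ?_
    exact (rk_le_encard k _).trans (by simp)

/-- The count with the parameters: `C : Matrix M ι R`, `r : I → R`. -/
theorem smallDim_graph {M ι I : Type} [Fintype M] [DecidableEq M] [Fintype ι] [Fintype I] {R : Type u} [CommRing R]
    [Algebra k R] {e : ℕ∞} (hR : RkLE k R e) (C : Matrix M ι R) (r : I → R) :
    SmallDim k (e + ((Fintype.card ι - Fintype.card M : ℕ) : ℕ∞))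
      {p : ι ⊕ I → k | ∃ χ : R →ₐ[k] k, Function.Surjective (C.map χ).mulVec ∧
        (C.map χ).mulVec (fun i => p (Sum.inl i)) = 0 ∧ ∀ i, χ (r i) = p (Sum.inr i)} := by
  classical
  let C' : Matrix (M ⊕ (I ⊕ Unit)) (ι ⊕ (I ⊕ Unit)) R := fun a b => match a, b with
    | Sum.inl m, Sum.inl s => C m s
    | Sum.inl _, Sum.inr _ => 0
    | Sum.inr (Sum.inl _), Sum.inl _ => 0
    | Sum.inr (Sum.inl i), Sum.inr (Sum.inl i') => if i = i' then 1 else 0
    | Sum.inr (Sum.inl i), Sum.inr (Sum.inr _) => - r i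
    | Sum.inr (Sum.inr _), Sum.inl _ => 0
    | Sum.inr (Sum.inr _), Sum.inr (Sum.inl _) => 0
    | Sum.inr (Sum.inr _), Sum.inr (Sum.inr _) => 1
  have hC'1 : ∀ (χ : R →ₐ[k] k) (y : ι ⊕ (I ⊕ Unit) → k) (m : M),
      (C'.map χ).mulVec y (Sum.inl m) = (C.map χ).mulVec (fun i => y (Sum.inl i)) m := by
    intro χ y m
    simp [Matrix.mulVec, dotProduct, C', Fintype.sum_sum_type]
  have hC'2 : ∀ (χ : R →ₐ[k] k) (y : ι ⊕ (I ⊕ Unit) → k) (i : I),
      (C'.map χ).mulVec y (Sum.inr (Sum.inl i)) = y (Sum.inr (Sum.inl i)) - χ (r i) * y (Sum.inr (Sum.inr ())) := by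
    intro χ y i
    simp [Matrix.mulVec, dotProduct, C', Fintype.sum_sum_type, apply_ite χ, ite_mul, sub_eq_add_neg]
  have hC'3 : ∀ (χ : R →ₐ[k] k) (y : ι ⊕ (I ⊕ Unit) → k),
      (C'.map χ).mulVec y (Sum.inr (Sum.inr ())) = y (Sum.inr (Sum.inr ())) := by
    intro χ y
    simp [Matrix.mulVec, dotProduct, C', Fintype.sum_sum_type]
  have h1 := smallDim_count (k := k) hR C' (smallDim_singleton (k := k)
    (Sum.elim (fun _ : M => (0 : k)) (Sum.elim (fun _ : I => 0) (fun _ : Unit => 1))))
  have h2 := smallDim_proj h1 (Sum.map id Sum.inl : ι ⊕ I → ι ⊕ (I ⊕ Unit))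
  refine h2.mono ?_ ?_
  · have h3 : Fintype.card (ι ⊕ (I ⊕ Unit)) - Fintype.card (M ⊕ (I ⊕ Unit)) = Fintype.card ι - Fintype.card M := by
      simp only [Fintype.card_sum]
      omega
    rw [h3, add_zero]
  · rintro p ⟨χ, hχ, hp, hr⟩
    refine ⟨Sum.elim (fun i => p (Sum.inl i)) (Sum.elim (fun i => p (Sum.inr i)) (fun _ => 1)), ⟨χ, ?_, ?_⟩, ?_⟩
    · intro w
      obtain ⟨y, hy⟩ := hχ (fun m => w (Sum.inl m))
      refine ⟨Sum.elim y (Sum.elim (fun i => w (Sum.inr (Sum.inl i)) + χ (r i) * w (Sum.inr (Sum.inr ())))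
        (fun _ => w (Sum.inr (Sum.inr ())))), ?_⟩
      funext a
      rcases a with m | i | u
      · rw [hC'1]
        exact congrFun hy m
      · rw [hC'2]
        simp
      · rw [hC'3]
        simp
    · rw [Set.mem_singleton_iff]
      funext a
      rcases a with m | i | u
      · rw [hC'1]
        exact congrFun hp m
      · rw [hC'2]
        simp [hr]
      · rw [hC'3]
        simp
    · rintro (i | i) <;> rfl

/-- A nonzero polynomial in two groups of variables stays nonzero after substitution of general values of the first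
group. -/
theorem exists_coeff_ne_zero {σ I : Type} [Finite I] (F : MvPolynomial (σ ⊕ I) k) (hF : F ≠ 0) :
    ∃ c : MvPolynomial σ k, c ≠ 0 ∧ ∀ y : σ → k, aeval y c ≠ 0 →
      (aeval (Sum.elim (fun s => C (y s)) X) F : MvPolynomial I k) ≠ 0 := by
  classical
  let E := (renameEquiv k (Equiv.sumComm σ I)).trans (sumAlgEquiv k I σ)
  have hE : E F ≠ 0 := fun h => hF (E.injective (h.trans (map_zero _).symm))
  obtain ⟨m, hm⟩ := ne_zero_iff.1 hE
  refine ⟨coeff m (E F), hm, fun y hy h0 => hy ?_⟩
  have h1 : (MvPolynomial.mapAlgHom (aeval y : MvPolynomial σ k →ₐ[k] k)).comp E.toAlgHom =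
      (aeval (Sum.elim (fun s => C (y s)) X) : MvPolynomial (σ ⊕ I) k →ₐ[k] MvPolynomial I k) := by
    apply MvPolynomial.algHom_ext
    rintro (s | i)
    · simp [E]
    · simp [E]
  have h2 := congrArg (coeff m) (AlgHom.congr_fun h1 F)
  rw [h0, coeff_zero] at h2
  have h3 : coeff m ((MvPolynomial.mapAlgHom (aeval y : MvPolynomial σ k →ₐ[k] k)).comp E.toAlgHom F) =
      aeval y (coeff m (E F)) := by
    have h4 : (MvPolynomial.mapAlgHom (aeval y : MvPolynomial σ k →ₐ[k] k)).comp E.toAlgHom F =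
      MvPolynomial.map ((aeval y : MvPolynomial σ k →ₐ[k] k) : MvPolynomial σ k →+* k) (E F) := rfl
    rw [h4, coeff_map]
    rfl
  rw [← h3]
  exact h2

/-- Algebraically independent variables modulo a prime ideal. -/
theorem exists_algebraicIndependent {J : Type} [Fintype J] (P : Ideal (MvPolynomial J k)) [P.IsPrime] {d m : ℕ}
    (htr : Algebra.trdeg k (MvPolynomial J k ⧸ P) = d) (hm : m ≤ d) :
    ∃ β : Fin m → J, AlgebraicIndependent k (fun i => Ideal.Quotient.mk P (X (β i))) := by
  classical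
  let x : J → MvPolynomial J k ⧸ P := fun i => Ideal.Quotient.mk P (X i)
  have hgen : Algebra.adjoin k (Set.range x) = ⊤ := by
    have h1 : Set.range x = (Ideal.Quotient.mkₐ k P) '' (Set.range X) := by
      rw [← Set.range_comp]; rfl
    rw [h1, ← AlgHom.map_adjoin, MvPolynomial.adjoin_range_X, Algebra.map_top,
      AlgHom.range_eq_top]
    exact Ideal.Quotient.mk_surjective
  have halg : Algebra.IsAlgebraic (Algebra.adjoin k (Set.range x)) (MvPolynomial J k ⧸ P) := by
    rw [hgen]
    exact ⟨fun y => isAlgebraic_algebraMap (⟨y, trivial⟩ : (⊤ : Subalgebra k (MvPolynomial J k ⧸ P)))⟩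
  have : FaithfulSMul k (MvPolynomial J k ⧸ P) := by
    have h0 := (algebraMap k (MvPolynomial J k ⧸ P)).injective
    exact (faithfulSMul_iff_algebraMap_injective _ _).mpr h0
  obtain ⟨t, hts, ht⟩ := exists_isTranscendenceBasis_subset (R := k) (Set.range x)
  have htfin : t.Finite := (Set.finite_range x).subset hts
  have : Fintype t := htfin.fintype
  have hcard : Fintype.card t = d := by
    have h1 := ht.cardinalMk_eq_trdeg
    rw [htr, Cardinal.mk_fintype] at h1
    exact_mod_cast h1
  have hidx : ∀ y : t, ∃ i, x i = y := fun y => hts y.2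
  choose idx hidx using hidx
  let E : Fin d ≃ t := (Fintype.equivFinOfCardEq hcard).symm
  refine ⟨fun i => idx (E (Fin.castLE hm i)), ?_⟩
  have h2 : (fun i : Fin m => Ideal.Quotient.mk P (X (idx (E (Fin.castLE hm i))))) =
      (fun y : t => (y : MvPolynomial J k ⧸ P)) ∘ fun i => E (Fin.castLE hm i) := by
    funext i
    exact hidx _
  rw [h2]
  exact ht.1.comp _ (E.injective.comp (Fin.castLE_injective hm))

/-- **The dimension count.** -/
theorem isGeneric_dim_le [IsAlgClosed k] {V : Type u} [AddCommGroup V] [Module k V] [FiniteDimensional k V]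
    {M J : Type} [Fintype M] [Fintype J] {R : Type u} [CommRing R] [Algebra k R] {e D : ℕ} (hR : RkLE k R e)
    (L : M → V →ₗ[k] R) (r : J → R) (he : e ≤ D + Fintype.card M) :
    IsGeneric k {H : V | ∀ P : Ideal (MvPolynomial J k), P.IsPrime →
      (∀ f ∉ P, ∃ χ : R →ₐ[k] k, Function.Surjective (fun (H : V) (m : M) => χ (L m H)) ∧ (∀ m, χ (L m H) = 0) ∧
        aeval (fun j => χ (r j)) f ≠ 0) →
      ringKrullDim (MvPolynomial J k ⧸ P) ≤ D} := by
  classical
  have : Infinite k := IsAlgClosed.instInfinite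
  let b : V ≃ₗ[k] (Fin (Module.finrank k V) → k) := (Module.finBasis k V).equivFun
  let C : Matrix M (Fin (Module.finrank k V)) R := fun m e => L m (b.symm (Pi.single e 1))
  have hC : ∀ (χ : R →ₐ[k] k) (y : Fin (Module.finrank k V) → k),
      (C.map χ).mulVec y = fun m => χ (L m (b.symm y)) := by
    intro χ y
    ext m
    have h1 : y = ∑ e, y e • (Pi.single e 1 : Fin (Module.finrank k V) → k) := by
      ext e'
      simp [Finset.sum_apply, Pi.single_apply]
    conv_rhs => rw [h1]
    rw [map_sum, map_sum, map_sum]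
    simp only [Matrix.mulVec, dotProduct, Matrix.map_apply, C]
    refine Finset.sum_congr rfl fun e _ => ?_
    rw [_root_.map_smul, _root_.map_smul, _root_.map_smul, smul_eq_mul, mul_comm]
  by_cases hcard : Fintype.card M ≤ Module.finrank k V
  · have key : ∀ β : Fin (D + 1) → J, IsGeneric k {H : V | ∃ g : MvPolynomial (Fin (D + 1)) k, g ≠ 0 ∧
        ∀ χ : R →ₐ[k] k, Function.Surjective (fun (H : V) (m : M) => χ (L m H)) → (∀ m, χ (L m H) = 0) →
          aeval (fun i => χ (r (β i))) g = 0} := by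
      intro β
      obtain ⟨F, hF0, hF⟩ := (smallDim_graph hR C (fun i => r (β i))).exists_polynomial (by
        rw [Fintype.card_sum, Fintype.card_fin, Fintype.card_fin]
        norm_cast
        omega)
      obtain ⟨c, hc0, hc⟩ := exists_coeff_ne_zero F hF0
      refine isGeneric_of_mvPolynomial b hc0 fun H hH => ⟨_, hc _ hH, fun χ hχ hχH => ?_⟩
      have h1 := hF (Sum.elim (b H) (fun i => χ (r (β i)))) ⟨χ, ?_, ?_, fun i => rfl⟩
      · rw [← AlgHom.comp_apply, comp_aeval]
        convert h1 using 2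
        congr 1
        funext i
        rcases i with i | i
        · simp
        · simp
      · intro z
        obtain ⟨H', hH'⟩ := hχ z
        refine ⟨b H', ?_⟩
        rw [hC, LinearEquiv.symm_apply_apply]
        exact hH'
      · simp only [Sum.elim_inl]
        rw [hC]
        funext m
        rw [LinearEquiv.symm_apply_apply]
        exact hχH m
    refine IsGeneric.mono (IsGeneric.iInter key) fun H hH P hP hdens => ?_
    rw [Set.mem_iInter] at hH
    obtain ⟨d, h, hd, htr, -, -⟩ := K714.DimMv.exists_nat_dim P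
    rw [hd]
    by_contra hcon
    have hDd : D + 1 ≤ d := by
      by_contra h1
      apply hcon
      have h2 : d ≤ D := by omega
      exact_mod_cast h2
    obtain ⟨β, hβ⟩ := exists_algebraicIndependent P htr hDd
    obtain ⟨g, hg0, hg⟩ := hH β
    have h1 : aeval (fun i => X (β i)) g ∉ P := by
      intro h
      apply hg0
      rw [AlgebraicIndependent, injective_iff_map_eq_zero] at hβ
      apply hβ
      have h2 : Ideal.Quotient.mkₐ k P (aeval (fun i => X (β i)) g) = 0 := Ideal.Quotient.eq_zero_iff_mem.2 h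
      rw [← AlgHom.comp_apply, comp_aeval] at h2
      exact h2
    obtain ⟨χ, h2, h3, h4⟩ := hdens _ h1
    apply h4
    rw [← AlgHom.comp_apply, comp_aeval]
    simpa using hg χ h2 h3
  · refine IsGeneric.mono (isGeneric_univ (k := k) (V := V)) fun H _ P hP hdens => ?_
    exfalso
    obtain ⟨χ, hχ, -, -⟩ := hdens 1 ((Ideal.ne_top_iff_one P).1 hP.ne_top)
    apply hcard
    let ℓ : V →ₗ[k] (M → k) := LinearMap.pi fun m => χ.toLinearMap.comp (L m)
    have h4 : LinearMap.range ℓ = ⊤ := LinearMap.range_eq_top.2 hχ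
    have h5 := LinearMap.finrank_range_le ℓ
    rw [h4, finrank_top] at h5
    simpa using h5

end K724.FibDim
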