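import Groth.Agent.Fano.K724.FibDim
import Groth.Agent.Fano.K724.ConRem
import Groth.Agent.Fano.K714.HomDim

/-!
# Dimension counts for conics on hypersurfaces

Nodes H5, H6, H7 of `K745.PlanH`: `le_ringKrullDim_quotient`, `isGeneric_bad`, `isGeneric_ringKrullDim_RD_le`.
-/

set_option autoImplicit false

universe u

open CategoryTheory CategoryTheory.Limits AlgebraicGeometry

namespace K724.HDim

open K745.ConDef K745.HDef MvPolynomial ConRem FibDim LefPen Groth.Agent.Lefpen.H701
  Groth.Agent.Lefpen.H701.SmallDim Groth.Agent.Lefpen.H701.SmallDim2 Groth.Agent.Lefpen.H701.Rk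
  Groth.Agent.Lefpen.H702.PolyFun

section Gen

/-- The dimension of a localization. -/
theorem ringKrullDim_away_le {A : Type*} [CommRing A] (f : A) (t : WithBot ℕ∞)
    (h : ∀ p : PrimeSpectrum A, f ∉ p.asIdeal → ringKrullDim (A ⧸ p.asIdeal) ≤ t) :
    ringKrullDim (Localization.Away f) ≤ t := by
  rw [ringKrullDim, Order.krullDim]
  refine iSup_le fun l => ?_
  let q : PrimeSpectrum (Localization.Away f) → PrimeSpectrum A := PrimeSpectrum.comap (algebraMap A _)
  have hq : ∀ a b, a < b → q a < q b := by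
    intro a b hab
    refine lt_of_le_of_ne ?_ fun he => ?_
    · exact Ideal.comap_mono hab.le
    · exact hab.ne (PrimeSpectrum.localization_comap_injective (Localization.Away f) (Submonoid.powers f) he)
  have hhead : f ∉ (q l.head).asIdeal := by
    intro hf
    have h1 : algebraMap A (Localization.Away f) f ∈ l.head.asIdeal := hf
    exact l.head.2.ne_top (Ideal.eq_top_of_isUnit_mem _ h1 (IsLocalization.Away.algebraMap_isUnit f))
  refine le_trans ?_ (h (q l.head) hhead)
  rw [ringKrullDim_quotient]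
  let l' : LTSeries (PrimeSpectrum.zeroLocus ((q l.head).asIdeal : Set A)) :=
    { length := l.length
      toFun := fun i => ⟨q (l i), by
        rw [PrimeSpectrum.mem_zeroLocus]
        have h1 : l.head ≤ l i := LTSeries.head_le l i
        exact Ideal.comap_mono h1⟩
      step := fun i => hq _ _ (l.step i) }
  exact Order.LTSeries.length_le_krullDim l'

theorem ringKrullDim_quotient_comap {A : Type*} [CommRing A] (I : Ideal A) (p : Ideal (A ⧸ I)) :
    ringKrullDim ((A ⧸ I) ⧸ p) = ringKrullDim (A ⧸ p.comap (Ideal.Quotient.mk I)) := by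
  refine (ringKrullDim_eq_of_ringEquiv (RingEquiv.ofBijective (Ideal.quotientMap p (Ideal.Quotient.mk I) le_rfl)
    ⟨Ideal.quotientMap_injective, Ideal.quotientMap_surjective Ideal.Quotient.mk_surjective⟩)).symm

variable {k : Type u} [Field k]

theorem rkLE_self : RkLE k k 0 := by
  intro K _ _ ψ
  have h1 : Set.range ψ ⊆ cl k (∅ : Set K) := by
    rintro _ ⟨i, rfl⟩
    have h2 : ψ i = algebraMap k K i := ψ.commutes i
    rw [h2]
    exact algebraMap_mem_cl k _ _
  refine (rk_le_of_subset_cl k h1).trans ?_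
  exact (rk_le_encard k _).trans (by simp)

theorem rkLE_mvPolynomial (σ : Type) [Fintype σ] : RkLE k (MvPolynomial σ k) (Fintype.card σ) := by
  have := (rkLE_self (k := k)).mvPolynomial (σ := σ)
  rwa [zero_add] at this

/-- Points of a prime ideal outside a hypersurface. -/
theorem exists_point [IsAlgClosed k] {σ : Type} [Finite σ] (P : Ideal (MvPolynomial σ k)) [hP : P.IsPrime]
    (f : MvPolynomial σ k) (hf : f ∉ P) : ∃ χ : MvPolynomial σ k →ₐ[k] k, (∀ g ∈ P, χ g = 0) ∧ χ f ≠ 0 := by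
  by_contra hcon
  push Not at hcon
  apply hf
  rw [← MvPolynomial.IsPrime.vanishingIdeal_zeroLocus (K := k) P]
  intro x hx
  exact hcon (aeval x) hx

end Gen

section Rem

variable {n d : ℕ} {k : Type u} [Field k]

/-- The coefficients of the remainder of `G ∘ φ` modulo `qf c`, as linear functions of the form `G`. -/
noncomputable def Lrem (n d : ℕ) (k : Type u) [Field k] (m : MI d) : LefPen.Form n k d →ₗ[k] AC n k where
  toFun G := remCoeff (cU n k) (subF C G.1 (φU n k)) (mI m) (eI m)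
  map_add' G G' := by
    change remCoeff _ (subF _ (G.1 + G'.1) _) _ _ = _
    rw [subF_add, remCoeff_add]
  map_smul' a G := by
    change remCoeff _ (subF _ (a • G.1) _) _ _ = _
    rw [smul_eq_C_mul, subF_C_mul, remCoeff_C_mul, RingHom.id_apply, smul_eq_C_mul]

theorem comp_C (χ : AC n k →ₐ[k] k) : (χ : AC n k →+* k).comp C = RingHom.id k := by
  ext a
  exact χ.commutes a

theorem apply_Lrem (χ : AC n k →ₐ[k] k) (m : MI d) (G : LefPen.Form n k d) :
    χ (Lrem n d k m G) = remCoeff (fun i => χ (cU n k i)) (subF (RingHom.id k) G.1 (fun l i => χ (φU n k l i)))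
      (mI m) (eI m) := by
  have h1 := map_remCoeff (χ : AC n k →+* k) (cU n k) (subF C G.1 (φU n k)) (mI m) (eI m)
  rw [map_subF, comp_C] at h1
  exact h1

theorem map_det3 {A B : Type u} [CommRing A] [CommRing B] (χ : A →+* B) (φ : Fin (n + 1) → Fin 3 → A)
    (l : Fin 3 → Fin (n + 1)) : χ (det3 φ l) = det3 (fun a i => χ (φ a i)) l := by
  rw [det3, det3, RingHom.map_det]
  rfl

theorem surjective_Lrem (χ : AC n k →ₐ[k] k) (l : Fin 3 → Fin (n + 1)) (hl : χ (det3 (φU n k) l) ≠ 0) :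
    Function.Surjective (fun (G : LefPen.Form n k d) (m : MI d) => χ (Lrem n d k m G)) := by
  intro z
  have hl' : det3 (fun a i => χ (φU n k a i)) l ≠ 0 := by
    have := map_det3 (χ : AC n k →+* k) (φU n k) l
    intro h0
    exact hl (this.trans h0)
  obtain ⟨G, hG⟩ := exists_subF_eq (fun a i => χ (φU n k a i)) l hl' (Rz z) (isHomogeneous_Rz z)
  refine ⟨G, funext fun m => ?_⟩
  change χ (Lrem n d k m G) = z m
  rw [apply_Lrem, hG, remCoeff_Rz, coeff_Rz]

theorem Lrem_mem (m : MI d) (G : LefPen.Form n k d) : Lrem n d k m G ∈ conIdeal G.1 :=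
  Ideal.subset_span ⟨mI m, eI m, rfl⟩

theorem conIdeal_eq_span (G : LefPen.Form n k d) :
    conIdeal G.1 = Ideal.span (Set.range fun m : MI d => Lrem n d k m G) := by
  apply le_antisymm
  · rw [conIdeal, Ideal.span_le]
    rintro a ⟨m, e, rfl⟩
    by_cases h : ∃ i : MI d, mI i = m ∧ eI i = e
    · obtain ⟨i, rfl, rfl⟩ := h
      exact Ideal.subset_span ⟨i, rfl⟩
    · push Not at h
      have h1 : remCoeff (cU n k) (subF C G.1 (φU n k)) m e = 0 := by
        refine remCoeff_eq_zero (d := d) _ _ (isHomogeneous_subF _ _ ((mem_homogeneousSubmodule _ _).1 G.2) _) m e ?_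
        rintro i ⟨h2, h3⟩
        exact h i h2 h3
      rw [h1]
      exact zero_mem _
  · rw [Ideal.span_le]
    rintro _ ⟨m, rfl⟩
    exact Lrem_mem m G

theorem card_J : Nat.card (Fin 5 ⊕ (Fin (n + 1) × Fin 3)) = 3 * n + 8 := by
  simp
  ring

theorem card_MI : Fintype.card (MI d) = 2 * d + 1 := by
  simp
  ring

/-- Node H5: lower bound for the dimension (there are `2 d + 1` equations in `3 n + 8` unknowns). -/
theorem le_ringKrullDim_quotient (G : LefPen.Form n k d) (p : Ideal (RC G.1))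
    (hp : p ∈ minimalPrimes (RC G.1)) : ((3 * n + 7 - 2 * d : ℕ) : WithBot ℕ∞) ≤ ringKrullDim (RC G.1 ⧸ p) := by
  classical
  rw [ringKrullDim_quotient_comap]
  have hmin : p.comap (mkR G.1) ∈ (conIdeal G.1).minimalPrimes := by
    have h1 := Ideal.minimalPrimes_eq_comap (I := conIdeal G.1)
    rw [h1]
    exact ⟨p, hp, rfl⟩
  obtain ⟨Pc, hPc⟩ : ∃ Pc : Ideal (AC n k), Pc = p.comap (mkR G.1) := ⟨_, rfl⟩
  change _ ≤ ringKrullDim (AC n k ⧸ p.comap (mkR G.1))
  rw [← hPc] at hmin ⊢
  have hprime : Pc.IsPrime := hmin.1.1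
  obtain ⟨D, h, hD, -, hh, hhD⟩ := K714.DimMv.exists_nat_dim Pc
  have h2 : Pc.height ≤ (2 * d + 1 : ℕ) := by
    rw [conIdeal_eq_span] at hmin
    have h3 := Ideal.height_le_card_of_mem_minimalPrimes_span (Set.finite_range _) hmin
    refine h3.trans ?_
    have h4 : (Set.range fun m : MI d => Lrem n d k m G).ncard ≤ 2 * d + 1 := by
      rw [← Nat.card_coe_set_eq, ← card_MI, ← Nat.card_eq_fintype_card]
      exact Finite.card_range_le _
    exact_mod_cast h4
  rw [hh] at h2
  have h5 : h ≤ 2 * d + 1 := by exact_mod_cast h2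
  have h6 : h + D = 3 * n + 8 := hhD.trans card_J
  have h7 : 3 * n + 7 - 2 * d ≤ D := by omega
  have h8 : ringKrullDim (AC n k ⧸ Pc) = D := hD
  rw [h8]
  exact_mod_cast h7

variable [IsAlgClosed k]

/-- The count on the locus where some three rows are independent. -/
theorem isGeneric_of_rkLE {I : Ideal (AC n k)} {e D : ℕ} (hI : RkLE k (AC n k ⧸ I) e) (he : e ≤ D + (2 * d + 1)) :
    IsGeneric k {G : LefPen.Form n k d | ∀ P : Ideal (AC n k), P.IsPrime → conIdeal G.1 ≤ P → I ≤ P →
      ∀ l, det3 (φU n k) l ∉ P → ringKrullDim (AC n k ⧸ P) ≤ D} := by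
  have : FiniteDimensional k (LefPen.Form n k d) :=
    Module.Finite.equiv (formCoords n k d).symm
  have h1 := isGeneric_dim_le (k := k) (V := LefPen.Form n k d) (M := MI d) (J := Fin 5 ⊕ (Fin (n + 1) × Fin 3)) hI
    (fun m => (Ideal.Quotient.mkₐ k I).toLinearMap.comp (Lrem n d k m)) (fun j => Ideal.Quotient.mk I (X j)) (D := D)
    (by rw [card_MI]; exact he)
  refine IsGeneric.mono h1 fun G hG P hP hGP hIP l hl => hG P hP fun f hf => ?_
  have hfl : f * det3 (φU n k) l ∉ P := fun h => (hP.mem_or_mem h).elim hf hl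
  obtain ⟨χ₀, h2, h3⟩ := exists_point P _ hfl
  rw [map_mul] at h3
  let χ : (AC n k ⧸ I) →ₐ[k] k := Ideal.Quotient.liftₐ I χ₀ fun a ha => h2 a (hIP ha)
  have hχ : ∀ a, χ (Ideal.Quotient.mk I a) = χ₀ a := fun a => rfl
  refine ⟨χ, ?_, ?_, ?_⟩
  · exact surjective_Lrem χ₀ l (right_ne_zero_of_mul h3)
  · intro m
    exact h2 _ (hGP (Lrem_mem m G))
  · have h4 : (fun j => χ (Ideal.Quotient.mk I (X j))) = fun j => χ₀ (X j) := rfl
    rw [h4]
    have h5 : aeval (fun j => χ₀ (X j)) f = χ₀ f := by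
      have : aeval (fun j => χ₀ (X j)) = χ₀ := by
        apply MvPolynomial.algHom_ext
        intro j
        simp
      rw [this]
    rw [h5]
    exact left_ne_zero_of_mul h3

end Rem

section Cross

open Matrix

variable {k : Type u} [Field k]

theorem eval_qf {A : Type u} [CommRing A] (c : Fin 5 → A) (x : Fin 3 → A) : eval x (qf c) =
    x 0 ^ 2 + c 0 * (x 0 * x 1) + c 1 * (x 0 * x 2) + c 2 * x 1 ^ 2 + c 3 * (x 1 * x 2) + c 4 * x 2 ^ 2 := by
  simp [qf]

theorem cramer (u w x : Fin 3 → k) (t j : Fin 3) (h : x ⬝ᵥ (u ⨯₃ w) = 0) :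
    (x ⨯₃ w) t * u j + (u ⨯₃ x) t * w j = (u ⨯₃ w) t * x j := by
  rw [cross_apply, vec3_dotProduct] at h
  simp only [Matrix.cons_val] at h
  fin_cases t <;> fin_cases j <;> simp [cross_apply] <;> first | ring1 | linear_combination h | linear_combination -h

theorem exists_comb (u w x : Fin 3 → k) (hv : u ⨯₃ w ≠ 0) (h : x ⬝ᵥ (u ⨯₃ w) = 0) :
    ∃ α β : k, ∀ j, x j = α * u j + β * w j := by
  obtain ⟨t, ht⟩ := Function.ne_iff.1 hv
  rw [Pi.zero_apply] at ht
  refine ⟨(x ⨯₃ w) t / (u ⨯₃ w) t, (u ⨯₃ x) t / (u ⨯₃ w) t, fun j => ?_⟩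
  have h1 := cramer u w x t j h
  field_simp
  linear_combination -h1

theorem exists_dot (u w : Fin 3 → k) (hv : u ⨯₃ w ≠ 0) (y : Fin 2 → k) :
    ∃ x : Fin 3 → k, u ⬝ᵥ x = y 0 ∧ w ⬝ᵥ x = y 1 := by
  obtain ⟨t, ht⟩ := Function.ne_iff.1 hv
  rw [Pi.zero_apply] at ht
  let e : Fin 3 → k := Pi.single t 1
  have he : e ⬝ᵥ (u ⨯₃ w) = (u ⨯₃ w) t := by simp [e]
  have h1 : u ⬝ᵥ (w ⨯₃ e) = (u ⨯₃ w) t := by rw [← he, triple_product_permutation e u w]
  have h2 : w ⬝ᵥ (e ⨯₃ u) = (u ⨯₃ w) t := by rw [← he, ← triple_product_permutation w e u]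
  refine ⟨((u ⨯₃ w) t)⁻¹ • (y 0 • (w ⨯₃ e) + y 1 • (e ⨯₃ u)), ?_, ?_⟩
  · rw [dotProduct_smul, dotProduct_add, dotProduct_smul, dotProduct_smul, h1, dot_cross_self]
    simp only [smul_eq_mul]
    field_simp
    ring
  · rw [dotProduct_smul, dotProduct_add, dotProduct_smul, dotProduct_smul, h2, dot_self_cross]
    simp only [smul_eq_mul]
    field_simp
    ring

theorem exists_root_qf [IsAlgClosed k] (c : Fin 5 → k) (x v : Fin 3 → k) (hv : eval v (qf c) ≠ 0) :
    ∃ t : k, eval (x + t • v) (qf c) = 0 := by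
  let p : Polynomial k := Polynomial.C (eval v (qf c)) * Polynomial.X ^ 2 +
    Polynomial.C (2 * x 0 * v 0 + c 0 * (x 0 * v 1 + x 1 * v 0) + c 1 * (x 0 * v 2 + x 2 * v 0) +
      2 * c 2 * x 1 * v 1 + c 3 * (x 1 * v 2 + x 2 * v 1) + 2 * c 4 * x 2 * v 2) * Polynomial.X +
    Polynomial.C (eval x (qf c))
  have hp : p.degree ≠ 0 := by
    rw [Polynomial.degree_quadratic hv]
    decide
  obtain ⟨t, ht⟩ := IsAlgClosed.exists_root p hp
  refine ⟨t, ?_⟩
  rw [Polynomial.IsRoot.def] at ht
  simp only [p, Polynomial.eval_add, Polynomial.eval_mul, Polynomial.eval_C, Polynomial.eval_pow,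
    Polynomial.eval_X, eval_qf] at ht
  rw [eval_qf]
  simp only [Pi.add_apply, Pi.smul_apply, smul_eq_mul]
  linear_combination ht

end Cross

section RankTwo

open Matrix

variable {n d : ℕ} {k : Type u} [Field k]

/-- The parameters of the matrices of rank two whose rows `a`, `b` are independent, and of the quadratic form. -/
abbrev J2 (a b : Fin (n + 1)) : Type := Fin 5 ⊕ ((Fin 2 × Fin 3) ⊕ ({l : Fin (n + 1) // l ≠ a ∧ l ≠ b} × Fin 2))

theorem card_J2 {a b : Fin (n + 1)} (hab : a ≠ b) : Fintype.card (J2 a b) = 2 * n + 9 := by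
  classical
  have h1 : Fintype.card {l : Fin (n + 1) // l ≠ a ∧ l ≠ b} = n - 1 := by
    rw [Fintype.card_subtype]
    have h2 : (Finset.univ.filter fun l : Fin (n + 1) => l ≠ a ∧ l ≠ b) = (Finset.univ.erase a).erase b := by
      ext l
      simp [and_comm]
    rw [h2, Finset.card_erase_of_mem (by simp [hab.symm]), Finset.card_erase_of_mem (Finset.mem_univ _),
      Finset.card_univ, Fintype.card_fin]
    omega
  have hn : 1 ≤ n := by
    by_contra h
    have h3 := a.2
    have h4 := b.2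
    exact hab (Fin.ext (by omega))
  simp only [Fintype.card_sum, Fintype.card_prod, Fintype.card_fin, h1]
  omega

/-- The coefficients of the row `l` with respect to the rows `a`, `b`. -/
noncomputable def aU (k : Type u) [Field k] (a b : Fin (n + 1)) (l : Fin (n + 1)) (s : Fin 2) : MvPolynomial (J2 a b) k :=
  if h : l ≠ a ∧ l ≠ b then X (Sum.inr (Sum.inr (⟨l, h⟩, s))) else if l = a then (if s = 0 then 1 else 0)
    else (if s = 0 then 0 else 1)

/-- The universal point of the stratum. -/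
noncomputable def r2 (k : Type u) [Field k] (a b : Fin (n + 1)) :
    Fin 5 ⊕ (Fin (n + 1) × Fin 3) → MvPolynomial (J2 a b) k
  | Sum.inl i => X (Sum.inl i)
  | Sum.inr lj => aU k a b lj.1 0 * X (Sum.inr (Sum.inl (0, lj.2))) + aU k a b lj.1 1 * X (Sum.inr (Sum.inl (1, lj.2)))

/-- The binary form `G(α_{l,0} X_0 + α_{l,1} X_1)`. -/
noncomputable def sub2 {A : Type u} [CommRing A] [Algebra k A] (α : Fin (n + 1) → Fin 2 → A) :
    MvPolynomial (Fin (n + 1)) k →ₐ[k] MvPolynomial (Fin 2) A :=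
  aeval (fun l => C (α l 0) * X 0 + C (α l 1) * X 1)

theorem map_sub2 {A B : Type u} [CommRing A] [Algebra k A] [CommRing B] [Algebra k B] (χ : A →ₐ[k] B)
    (α : Fin (n + 1) → Fin 2 → A) (G : MvPolynomial (Fin (n + 1)) k) :
    (sub2 α G).map (χ : A →+* B) = sub2 (fun l s => χ (α l s)) G := by
  have h1 : (MvPolynomial.mapAlgHom (σ := Fin 2) χ).comp (sub2 α) = sub2 (k := k) (fun l s => χ (α l s)) := by
    apply MvPolynomial.algHom_ext
    intro l
    simp [sub2]
  exact AlgHom.congr_fun h1 G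

/-- The coefficients of the binary form. -/
noncomputable def L2 {A : Type u} [CommRing A] [Algebra k A] (α : Fin (n + 1) → Fin 2 → A) (i : Fin (d + 1)) :
    LefPen.Form n k d →ₗ[k] A where
  toFun G := coeff (Finsupp.single 0 i.val + Finsupp.single 1 (d - i.val)) (sub2 α G.1)
  map_add' G G' := by
    change coeff _ (sub2 α (G.1 + G'.1)) = _
    rw [map_add, coeff_add]
  map_smul' a G := by
    change coeff _ (sub2 α (a • G.1)) = _
    rw [_root_.map_smul, coeff_smul]
    rfl

theorem apply_L2 {A B : Type u} [CommRing A] [Algebra k A] [CommRing B] [Algebra k B] (χ : A →ₐ[k] B)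
    (α : Fin (n + 1) → Fin 2 → A) (i : Fin (d + 1)) (G : LefPen.Form n k d) :
    χ (L2 α i G) = L2 (fun l s => χ (α l s)) i G := by
  change χ (coeff _ _) = coeff _ _
  rw [← map_sub2, coeff_map]
  rfl

theorem surjective_L2 {a b : Fin (n + 1)} (α : Fin (n + 1) → Fin 2 → k)
    (ha : ∀ s, α a s = if s = 0 then 1 else 0) (hb : ∀ s, α b s = if s = 0 then 0 else 1) :
    Function.Surjective (fun (G : LefPen.Form n k d) (i : Fin (d + 1)) => L2 α i G) := by
  classical
  intro z
  refine ⟨⟨∑ i : Fin (d + 1), C (z i) * (X a ^ i.val * X b ^ (d - i.val)), Submodule.sum_mem _ fun i _ => ?_⟩, ?_⟩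
  · rw [mem_homogeneousSubmodule]
    have h1 := (isHomogeneous_C (Fin (n + 1)) (z i)).mul
      (((isHomogeneous_X k a).pow i.val).mul ((isHomogeneous_X k b).pow (d - i.val)))
    have h2 : 0 + (1 * i.val + 1 * (d - i.val)) = d := by
      have := i.2
      omega
    rwa [h2] at h1
  · funext i
    change coeff _ (sub2 α (∑ i : Fin (d + 1), C (z i) * (X a ^ i.val * X b ^ (d - i.val)))) = z i
    have h1 : (sub2 α (∑ i : Fin (d + 1), C (z i) * (X a ^ i.val * X b ^ (d - i.val))) : MvPolynomial (Fin 2) k) =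
        ∑ i : Fin (d + 1), monomial (Finsupp.single 0 i.val + Finsupp.single 1 (d - i.val)) (z i) := by
      rw [map_sum]
      refine Finset.sum_congr rfl fun i _ => ?_
      have h3 : (sub2 α (X a : MvPolynomial (Fin (n + 1)) k) : MvPolynomial (Fin 2) k) = X 0 := by simp [sub2, ha]
      have h4 : (sub2 α (X b : MvPolynomial (Fin (n + 1)) k) : MvPolynomial (Fin 2) k) = X 1 := by simp [sub2, hb]
      rw [map_mul, map_mul, map_pow, map_pow, h3, h4]
      have h5 : (sub2 α (C (z i) : MvPolynomial (Fin (n + 1)) k) : MvPolynomial (Fin 2) k) = C (z i) := by simp [sub2]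
      rw [h5, monomial_eq, Finsupp.prod_fintype _ _ (fun i => by simp)]
      simp
    rw [h1, coeff_sum, Finset.sum_eq_single i]
    · simp
    · intro j _ hj
      rw [coeff_monomial, if_neg]
      intro h2
      have := DFunLike.congr_fun h2 0
      simp at this
      exact hj (Fin.ext this)
    · simp

variable [IsAlgClosed k]

/-- A quadric whose equation does not vanish at the vertex of a cone is not a component of the cone. -/
theorem sub2_eq_zero (G : MvPolynomial (Fin (n + 1)) k) (c : Fin 5 → k) (φ : Fin (n + 1) → Fin 3 → k)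
    (u w : Fin 3 → k) (α : Fin (n + 1) → Fin 2 → k) (hα : ∀ l j, φ l j = α l 0 * u j + α l 1 * w j)
    (hq : eval (u ⨯₃ w) (qf c) ≠ 0) (h : qf c ∣ subF (RingHom.id k) G φ) : sub2 α G = 0 := by
  have : Infinite k := IsAlgClosed.instInfinite
  have hv : u ⨯₃ w ≠ 0 := by
    intro h0
    apply hq
    rw [h0, eval_qf]
    simp
  apply MvPolynomial.funext
  intro y
  rw [map_zero]
  obtain ⟨x, hx0, hx1⟩ := exists_dot u w hv y
  obtain ⟨t, ht⟩ := exists_root_qf c x (u ⨯₃ w) hq
  have h1 : eval (x + t • (u ⨯₃ w)) (subF (RingHom.id k) G φ) = 0 := by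
    obtain ⟨H, hH⟩ := h
    rw [hH, map_mul, ht, zero_mul]
  have h2 : ∀ l, eval (x + t • (u ⨯₃ w)) (lin3 (φ l)) = α l 0 * y 0 + α l 1 * y 1 := by
    intro l
    have h3 : eval (x + t • (u ⨯₃ w)) (lin3 (φ l)) = φ l ⬝ᵥ (x + t • (u ⨯₃ w)) := by
      simp [lin3, dotProduct]
    have h4 : φ l = α l 0 • u + α l 1 • w := by
      funext j
      exact hα l j
    rw [h3, h4, add_dotProduct, smul_dotProduct, smul_dotProduct, dotProduct_add, dotProduct_add, dotProduct_smul,
      dotProduct_smul, dot_self_cross, dot_cross_self, hx0, hx1]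
    simp
  have h5 : eval (x + t • (u ⨯₃ w)) (subF (RingHom.id k) G φ) = eval y (sub2 α G) := by
    have h6 : ((eval (x + t • (u ⨯₃ w))).comp (eval₂Hom (C.comp (RingHom.id k)) fun l => lin3 (φ l))) =
        (eval y).comp (sub2 α : MvPolynomial (Fin (n + 1)) k →ₐ[k] MvPolynomial (Fin 2) k).toRingHom := by
      apply MvPolynomial.ringHom_ext
      · intro a
        simp
      · intro l
        simp only [RingHom.comp_apply, eval₂Hom_X', h2]
        simp [sub2]
    exact RingHom.congr_fun h6 G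
  rw [← h5, h1]

/-- A `k`-point of the ring of pairs `(c, φ)` on the locus defined by `G` gives a solution. -/
theorem dvd_of_point (χ : AC n k →ₐ[k] k) (G : LefPen.Form n k d) (h : ∀ a ∈ conIdeal G.1, χ a = 0) :
    qf (fun i => χ (cU n k i)) ∣ subF (RingHom.id k) G.1 (fun l i => χ (φU n k l i)) := by
  rw [dvd_iff_remCoeff]
  intro m e
  have h1 := map_remCoeff (χ : AC n k →+* k) (cU n k) (subF C G.1 (φU n k)) m e
  rw [map_subF, comp_C] at h1
  refine h1.symm.trans (h _ (Ideal.subset_span ⟨m, e, rfl⟩))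

/-- The count on the locus of rank two. -/
theorem isGeneric_rank_two (hdn : d + 2 ≤ n) {a b : Fin (n + 1)} (hab : a ≠ b) :
    IsGeneric k {G : LefPen.Form n k d | ∀ P : Ideal (AC n k), P.IsPrime → conIdeal G.1 ≤ P →
      (∀ l, det3 (φU n k) l ∈ P) → bpf (cU n k) (φU n k) (Sum.inr (a, b)) ∉ P →
      ringKrullDim (AC n k ⧸ P) ≤ (3 * n + 6 - 2 * d : ℕ)} := by
  classical
  have : FiniteDimensional k (LefPen.Form n k d) :=
    Module.Finite.equiv (formCoords n k d).symm
  have h1 := isGeneric_dim_le (k := k) (V := LefPen.Form n k d) (M := Fin (d + 1))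
    (J := Fin 5 ⊕ (Fin (n + 1) × Fin 3)) (rkLE_mvPolynomial (J2 a b)) (fun i => L2 (aU k a b) i) (r2 k a b)
    (D := 3 * n + 6 - 2 * d) (by
      rw [card_J2 hab, Fintype.card_fin]
      omega)
  refine IsGeneric.mono h1 fun G hG P hP hGP hdet hab' => hG P hP fun f hf => ?_
  have hfl : f * bpf (cU n k) (φU n k) (Sum.inr (a, b)) ∉ P := fun h => (hP.mem_or_mem h).elim hf hab'
  obtain ⟨χ₀, h2, h3⟩ := exists_point P _ hfl
  rw [map_mul] at h3
  set c : Fin 5 → k := fun i => χ₀ (cU n k i) with hc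
  set φ : Fin (n + 1) → Fin 3 → k := fun l i => χ₀ (φU n k l i) with hφ
  have hq : eval (φ a ⨯₃ φ b) (qf c) ≠ 0 := by
    intro h0
    apply right_ne_zero_of_mul h3
    rw [← h0]
    simp only [bpf]
    rw [eval_qf, eval_qf, cross_apply, cross_apply]
    simp [hc, hφ]
  have hv : φ a ⨯₃ φ b ≠ 0 := by
    intro h0
    apply hq
    rw [h0, eval_qf]
    simp
  have hcomb : ∀ l, ∃ α β : k, ∀ j, φ l j = α * φ a j + β * φ b j := by
    intro l
    apply exists_comb (φ a) (φ b) (φ l) hv
    rw [triple_product_eq_det]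
    have h4 := h2 _ (hdet ![l, a, b])
    have h5 := map_det3 (χ₀ : AC n k →+* k) (φU n k) ![l, a, b]
    have h6 : det3 (fun a i => χ₀ (φU n k a i)) ![l, a, b] = 0 := h5.symm.trans h4
    rw [det3] at h6
    rw [← h6]
    congr 1
    ext i j
    fin_cases i <;> rfl
  choose α₀ β₀ hαβ using hcomb
  let α : Fin (n + 1) → Fin 2 → k := fun l s => if l ≠ a ∧ l ≠ b then (if s = 0 then α₀ l else β₀ l) else
    if l = a then (if s = 0 then 1 else 0) else (if s = 0 then 0 else 1)
  have hα : ∀ l j, φ l j = α l 0 * φ a j + α l 1 * φ b j := by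
    intro l j
    by_cases hl : l ≠ a ∧ l ≠ b
    · simp only [α, if_pos hl, if_true, one_ne_zero, if_false]
      exact hαβ l j
    · simp only [α, if_neg hl, if_true, one_ne_zero, if_false]
      by_cases hla : l = a
      · subst hla
        simp
      · have hlb : l = b := by
          by_contra hlb
          exact hl ⟨hla, hlb⟩
        subst hlb
        simp [hla]
  let χ : MvPolynomial (J2 a b) k →ₐ[k] k := aeval (fun j => match j with
    | Sum.inl i => c i
    | Sum.inr (Sum.inl sj) => if sj.1 = 0 then φ a sj.2 else φ b sj.2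
    | Sum.inr (Sum.inr ls) => α ls.1.1 ls.2)
  have hχa : ∀ l s, χ (aU k a b l s) = α l s := by
    intro l s
    rw [aU]
    by_cases hl : l ≠ a ∧ l ≠ b
    · rw [dif_pos hl]
      simp [χ]
    · rw [dif_neg hl]
      simp only [α, if_neg hl]
      split_ifs <;> simp
  have hχr : ∀ j, χ (r2 k a b j) = χ₀ (X j) := by
    rintro (i | ⟨l, j⟩)
    · simp [χ, r2, hc, cU]
    · change _ = φ l j
      rw [hα l j, r2, map_add, map_mul, map_mul, hχa, hχa]
      simp [χ]
  refine ⟨χ, ?_, ?_, ?_⟩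
  · have h7 : (fun (H : LefPen.Form n k d) (m : Fin (d + 1)) => χ (L2 (aU k a b) m H)) =
        fun (H : LefPen.Form n k d) (m : Fin (d + 1)) => L2 α m H := by
      funext H m
      rw [apply_L2]
      congr 2
      funext l s
      exact hχa l s
    rw [h7]
    refine surjective_L2 (a := a) (b := b) α ?_ ?_
    · intro s
      simp [α]
    · intro s
      simp [α, hab.symm]
  · intro m
    rw [apply_L2]
    have h8 : (fun l s => χ (aU k a b l s)) = α := by
      funext l s
      exact hχa l s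
    rw [h8]
    change coeff _ (sub2 α G.1) = 0
    rw [sub2_eq_zero G.1 c φ (φ a) (φ b) α hα hq (dvd_of_point χ₀ G fun x hx => h2 x (hGP hx)), coeff_zero]
  · have h5 : aeval (fun j => χ (r2 k a b j)) f = χ₀ f := by
      have : aeval (fun j => χ (r2 k a b j)) = χ₀ := by
        apply MvPolynomial.algHom_ext
        intro j
        rw [aeval_X]
        exact hχr j
      rw [this]
    rw [h5]
    exact left_ne_zero_of_mul h3

end RankTwo

section Final

open Matrix

variable {n d : ℕ} {k : Type u} [Field k]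

theorem del_ne_zero (hn : 2 ≤ n) : del hn (φU n k) ≠ 0 := by
  intro h
  let χ : AC n k →+* k := eval (fun j => match j with
    | Sum.inl _ => 0
    | Sum.inr lj => if lj.1.val = lj.2.val then 1 else 0)
  have h1 := map_det3 χ (φU n k) (row3 hn)
  have h2 : χ (det3 (φU n k) (row3 hn)) = 0 := by
    have : det3 (φU n k) (row3 hn) = 0 := h
    rw [this, map_zero]
  rw [h2, det3] at h1
  have h3 : (Matrix.of fun i j => χ (φU n k (row3 hn i) j)) = (1 : Matrix (Fin 3) (Fin 3) k) := by
    ext i j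
    simp [χ, φU, row3, Matrix.one_apply, Fin.ext_iff]
  rw [h3, Matrix.det_one] at h1
  exact zero_ne_one h1

theorem disc3_ne_zero [CharZero k] : disc3 (cU n k) 0 ≠ 0 := by
  intro h
  let χ : AC n k →+* k := eval (fun j => match j with
    | Sum.inl i => if i = 2 then 1 else 0
    | Sum.inr _ => 0)
  have h1 := congrArg χ h
  simp [disc3, cU, χ] at h1

theorem rkLE_span {g : AC n k} (hg : g ≠ 0) : RkLE k (AC n k ⧸ Ideal.span {g}) (3 * n + 7 : ℕ) := by
  have h1 : RkLE k (AC n k) ((3 * n + 7 + 1 : ℕ) : ℕ∞) := by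
    have h2 := rkLE_mvPolynomial (k := k) (Fin 5 ⊕ (Fin (n + 1) × Fin 3))
    rw [← Nat.card_eq_fintype_card, card_J] at h2
    exact h2
  refine RkLE.quotient_of_isDomain h1 _ ?_
  rw [Ne, Ideal.span_singleton_eq_bot]
  exact hg

variable [IsAlgClosed k]

/-- Node H6: upper bound for the dimension of the bad locus. -/
theorem isGeneric_bad [CharZero k] (hdn : d + 3 ≤ n) (hn : 2 ≤ n) :
    LefPen.IsGeneric k {G : LefPen.Form n k d | ∀ p : PrimeSpectrum (RC G.1),
      (p ∈ VO G.1 ∧ mkR G.1 (del hn (φU n k)) ∈ p.asIdeal) ∨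
        (mkR G.1 (del hn (φU n k)) ∉ p.asIdeal ∧ ∀ i, mkR G.1 (disc3 (cU n k) i) ∈ p.asIdeal) →
      ringKrullDim (RC G.1 ⧸ p.asIdeal) ≤ ((3 * n + 6 - 2 * d : ℕ) : WithBot ℕ∞)} := by
  classical
  have : Infinite k := IsAlgClosed.instInfinite
  have h1 := isGeneric_of_rkLE (d := d) (D := 3 * n + 6 - 2 * d) (rkLE_span (del_ne_zero (n := n) (k := k) hn))
    (by omega)
  have h2 := isGeneric_of_rkLE (d := d) (D := 3 * n + 6 - 2 * d) (rkLE_span (disc3_ne_zero (n := n) (k := k)))
    (by omega)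
  have h3 := IsGeneric.iInter (ι := {ab : Fin (n + 1) × Fin (n + 1) // ab.1 ≠ ab.2})
    fun ab => isGeneric_rank_two (k := k) (d := d) (by omega) ab.2
  refine IsGeneric.mono (IsGeneric.inter (IsGeneric.inter h1 h2) h3) ?_
  rintro G ⟨⟨hA, hC⟩, hB⟩ p hp
  rw [Set.mem_iInter] at hB
  obtain ⟨P, hP⟩ : ∃ P : Ideal (AC n k), P = p.asIdeal.comap (mkR G.1) := ⟨_, rfl⟩
  have hmem : ∀ a, a ∈ P ↔ mkR G.1 a ∈ p.asIdeal := by
    intro a
    rw [hP]
    rfl
  have hprime : P.IsPrime := by
    rw [hP]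
    exact Ideal.comap_isPrime _ _
  have hGP : conIdeal G.1 ≤ P := by
    intro a ha
    rw [hmem, Ideal.Quotient.eq_zero_iff_mem.2 ha]
    exact zero_mem _
  have hdim : ringKrullDim (RC G.1 ⧸ p.asIdeal) = ringKrullDim (AC n k ⧸ P) := by
    rw [hP]
    exact ringKrullDim_quotient_comap (conIdeal G.1) p.asIdeal
  rw [hdim]
  rcases hp with ⟨hpV, hpd⟩ | ⟨hpd, hpc⟩
  · by_cases hl : ∃ l, det3 (φU n k) l ∉ P
    · obtain ⟨l, hl⟩ := hl
      refine hA P hprime hGP ?_ l hl
      rw [Ideal.span_singleton_le_iff_mem, hmem]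
      exact hpd
    · push Not at hl
      have hpV' : ∃ i, mkR G.1 (regPoly (cU n k) (φU n k) i) ∉ p.asIdeal := by
        have h4 : p ∈ (⨆ i, PrimeSpectrum.basicOpen (mkR G.1 (regPoly (cU n k) (φU n k) i))) := hpV
        rw [TopologicalSpace.Opens.mem_iSup] at h4
        obtain ⟨i, hi⟩ := h4
        exact ⟨i, hi⟩
      obtain ⟨⟨i, j⟩, hi⟩ := hpV'
      have hj : bpf (cU n k) (φU n k) j ∉ P := by
        intro h5
        apply hi
        rw [← hmem]
        exact Ideal.mul_mem_left _ _ h5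
      rcases j with l | ⟨a, b⟩
      · exact absurd (hl l) hj
      · have hab : a ≠ b := by
          rintro rfl
          apply hj
          simp only [bpf, cross_self, eval_qf]
          simp
        exact hB ⟨(a, b), hab⟩ P hprime hGP hl hj
  · refine hC P hprime hGP ?_ (row3 hn) ?_
    · rw [Ideal.span_singleton_le_iff_mem, hmem]
      exact hpc 0
    · rw [hmem]
      exact hpd

/-- Node H7: upper bound for the dimension of the good part. -/
theorem isGeneric_ringKrullDim_RD_le (hdn : d + 3 ≤ n) (hn : 2 ≤ n) :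
    LefPen.IsGeneric k {G : LefPen.Form n k d |
      ringKrullDim (RD hn G.1) ≤ ((3 * n + 7 - 2 * d : ℕ) : WithBot ℕ∞)} := by
  have h0 : RkLE k (AC n k ⧸ (⊥ : Ideal (AC n k))) (3 * n + 8 : ℕ) := by
    have h2 := rkLE_mvPolynomial (k := k) (Fin 5 ⊕ (Fin (n + 1) × Fin 3))
    rw [← Nat.card_eq_fintype_card, card_J] at h2
    exact RkLE.of_surjective h2 (Ideal.Quotient.mkₐ k _) Ideal.Quotient.mk_surjective
  have h1 := isGeneric_of_rkLE (d := d) (D := 3 * n + 7 - 2 * d) h0 (by omega)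
  refine IsGeneric.mono h1 fun G hG => ?_
  apply ringKrullDim_away_le
  intro p hp
  obtain ⟨P, hP⟩ : ∃ P : Ideal (AC n k), P = p.asIdeal.comap (mkR G.1) := ⟨_, rfl⟩
  have hmem : ∀ a, a ∈ P ↔ mkR G.1 a ∈ p.asIdeal := by
    intro a
    rw [hP]
    rfl
  have hprime : P.IsPrime := by
    rw [hP]
    exact Ideal.comap_isPrime _ _
  have hGP : conIdeal G.1 ≤ P := by
    intro a ha
    rw [hmem, Ideal.Quotient.eq_zero_iff_mem.2 ha]
    exact zero_mem _
  have hdim : ringKrullDim (RC G.1 ⧸ p.asIdeal) = ringKrullDim (AC n k ⧸ P) := by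
    rw [hP]
    exact ringKrullDim_quotient_comap (conIdeal G.1) p.asIdeal
  rw [hdim]
  refine hG P hprime hGP bot_le (row3 hn) ?_
  rw [hmem]
  exact hp

end Final

end K724.HDim
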